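import Groth.Agent.Lib.FormalExist7.PushTwist
import Groth.Agent.Lib.FormalExist7.IdealSys
import Groth.Agent.Lib.FCoh7.RpushBound
import Groth.Agent.Lib.SheafCoh.Leray
import Groth.Prelude.Def_Formal2

/-!
# A formal system on the target and the completion of a direct image
-/

set_option autoImplicit false
set_option linter.style.haveILetI false
set_option linter.unusedSectionVars false
set_option backward.isDefEq.respectTransparency false
universe u

open CategoryTheory CategoryTheory.Limits AlgebraicGeometry Opposite TopologicalSpace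

noncomputable section

namespace GrothLib.PushPull7

open GrothLib.FormalSys GrothLib.FormalFun GrothLib.QCoh GrothLib.FormalCd7 GrothLib.FormalExist7

variable {A : Type u} [CommRing A]

theorem app_isQuot' {X : Scheme.{u}} [X.Over (Spec (CommRingCat.of A))] [IsLocallyNoetherian X] {J : Ideal A}
    {M N : X.Modules} {π : M ⟶ N} (hπ : IsQuot J π) (hM : Coh.IsCoh M) (hN : Coh.IsCoh N) {U : X.Opens}
    (hU : IsAffineOpen U) :
    Function.Surjective (π.app U) ∧ ∀ m : Γ(M, U), π.app U m = 0 ↔
      m ∈ J.map (toSec A U) • (⊤ : Submodule Γ(X, U) Γ(M, U)) := by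
  haveI := hM.1
  haveI := hπ.epi
  have hker := fun y : X => ker_stalkLin_of_isQuot hπ y
  refine ⟨app_surjective_of_epi π hM hN hU, fun m => ⟨fun hm => mem_of_forall_germ_mem hU _ fun y hy => ?_, fun hm => ?_⟩⟩
  · rw [← hker y, LinearMap.mem_ker, stalkLin_germ π hy m, hm, map_zero]
  · refine section_ext_germ N fun y hy => ?_
    rw [map_zero]
    refine (stalkLin_germ π hy m).symm.trans (LinearMap.mem_ker.1 ?_)
    rw [hker y]
    exact germ_mem_of_mem hy _ hm

variable {X Y : Scheme.{u}} [X.Over (Spec (CommRingCat.of A))] [Y.Over (Spec (CommRingCat.of A))]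
  [IsNoetherian Y] (f : X ⟶ Y) [IsProper f]
  (hf : f ≫ (Y ↘ Spec (CommRingCat.of A)) = X ↘ Spec (CommRingCat.of A))
  (J : Ideal A) (F : X.Modules) (hF : Coh.IsCoh F)

/-- The direct image. -/
abbrev H : Y.Modules := (Scheme.Modules.pushforward f).obj F

/-- The direct images of the levels. -/
abbrev P : ℕᵒᵖ ⥤ Y.Modules := Formal.completion J F ⋙ Scheme.Modules.pushforward f

/-- The projection of the direct image to a level. -/
abbrev pm (m : ℕ) : H f F ⟶ (P f J F).obj (op m) := (Scheme.Modules.pushforward f).map (qπ J F m)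

theorem pm_trans {q n : ℕ} (h : q ≤ n) : pm f J F n ≫ trans (P f J F) h = pm f J F q :=
  ((Scheme.Modules.pushforward f).map_comp _ _).symm.trans (congrArg _ (qπ_trans J F h))

include hf hF in
/-- Formal functions on an affine open of the target. -/
theorem exists_bound_open (W : Y.affineOpens) : ∃ c : ℕ,
    (∀ k (h : Γ(H f F, W.1)), (pm f J F (k + c)).app W.1 h = 0 →
      h ∈ (J ^ (k + 1)).map (toSec A W.1) • (⊤ : Submodule Γ(Y, W.1) Γ(H f F, W.1))) ∧
    ∀ k (y : Γ((P f J F).obj (op (k + c)), W.1)), ∃ h : Γ(H f F, W.1),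
      (pm f J F k).app W.1 h = (trans (P f J F) (Nat.le_add_right k c)).app W.1 y := by
  haveI : IsLocallyNoetherian X := LocallyOfFiniteType.isLocallyNoetherian f
  haveI : IsGrothendieckAbelian.{u} X.Modules :=
    SheafCoh.isGrothendieckAbelian_sheafOfModules (R := X.ringCatSheaf)
  haveI : HasInjectiveResolutions X.Modules := inferInstance
  haveI : PreservesFiniteLimits (Scheme.Modules.pushforward f) := by
    haveI : PreservesLimitsOfSize.{0, 0} (Scheme.Modules.pushforward f) :=
      (Scheme.Modules.pullbackPushforwardAdjunction f).rightAdjoint_preservesLimits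
    exact PreservesLimitsOfSize.preservesFiniteLimits.{0, 0} _
  let Q : ℕ → X.Modules := fun k => (Formal.completion J F).obj (op k)
  have hQ : ∀ k, (Q k).IsQuasicoherent := fun k => (isCoh_modPow J (k + 1) hF).1
  have hu : ∀ (k : ℕ) (U : X.affineOpens), Function.Surjective ((qπ J F k).app U.1) ∧ ∀ m : Γ(F, U.1),
      (qπ J F k).app U.1 m = 0 ↔ m ∈ (((baseIdeal Y J).comap f) ^ (k + 1)).ideal U •
        (⊤ : Submodule Γ(X, U.1) Γ(F, U.1)) := fun k U => by
    have h := app_isQuot' (isQuot_qπ J F k) hF (isCoh_modPow J (k + 1) hF) U.2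
    have e : (baseIdeal Y J).comap f = baseIdeal X J := by
      rw [baseIdeal, baseIdeal, ← hf, Scheme.IdealSheafData.comap_comp]
    rw [e, Scheme.IdealSheafData.ideal_pow, Pi.pow_apply, ideal_baseIdeal, ← Ideal.map_pow]
    exact h
  obtain ⟨c, hc1, hc2⟩ := FCoh7.exists_Rpush_bound f W.2 (baseIdeal Y J) F hF Q (qπ J F) hQ hu 0
  let e := (Scheme.Modules.pushforward f).rightDerivedZeroIsoSelf
  have hn : ∀ {M N : X.Modules} (φ : M ⟶ N) (x : Γ((Scheme.Modules.pushforward f).obj M, W.1)),
      ((Coh.Rpush f 0).map φ).app W.1 ((e.inv.app M).app W.1 x) =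
        (e.inv.app N).app W.1 (((Scheme.Modules.pushforward f).map φ).app W.1 x) := fun φ x =>
    (congrArg (fun ψ => Scheme.Modules.Hom.app ψ W.1 x) (e.inv.naturality φ)).symm
  have hbij : ∀ M : X.Modules, Function.Bijective ((e.inv.app M).app W.1) := fun M =>
    ConcreteCategory.bijective_of_isIso ((e.inv.app M).app W.1)
  refine ⟨c, fun k h hh => ?_, fun k y => ?_⟩
  · have h0 := hc1 k ((e.inv.app F).app W.1 h) ((hn _ h).trans ((congrArg _ hh).trans (map_zero _)))
    rw [Scheme.IdealSheafData.ideal_pow, Pi.pow_apply, ideal_baseIdeal, ← Ideal.map_pow] at h0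
    obtain ⟨h', hh'⟩ := (hbij F).2 ((e.inv.app F).app W.1 h)
    have h1 := Submodule.mem_map_of_mem (f := appLinear (e.hom.app F) W.1) h0
    rw [Submodule.map_smul''] at h1
    have h2 := Submodule.smul_mono le_rfl le_top h1
    have h3 : appLinear (e.hom.app F) W.1 ((e.inv.app F).app W.1 h) = h :=
      congrArg (fun ψ => Scheme.Modules.Hom.app ψ W.1 h) (e.inv_hom_id_app F)
    rwa [h3] at h2
  · obtain ⟨x, hx⟩ := hc2 k ((Formal.completion J F).map (homOfLE (Nat.le_add_right k c)).op)
      (qπ_trans J F (Nat.le_add_right k c)) ((e.inv.app _).app W.1 y)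
    obtain ⟨h, rfl⟩ := (hbij F).2 x
    exact ⟨h, (hbij _).1 ((hn _ h).symm.trans (hx.trans (hn _ y)))⟩

include hf hF in
/-- The uniform stalkwise bound. -/
theorem exists_bound : ∃ c : ℕ, ∀ (k : ℕ) (y : Y),
    (∀ h, stalkLin (pm f J F (k + c)) y h = 0 → stalkLin (qπ J (H f F) k) y h = 0) ∧
    ∀ v, ∃ h, stalkLin (pm f J F k) y h = stalkLin (trans (P f J F) (Nat.le_add_right k c)) y v := by
  classical
  choose c hc using exists_bound_open f hf J F hF
  obtain ⟨cov, hcov⟩ := isCompact_univ.elim_finite_subcover (fun W : Y.affineOpens => (W.1 : Set Y))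
    (fun W => W.1.2) fun x _ => by
      obtain ⟨_, ⟨Z, hZ, rfl⟩, hx, -⟩ :=
        Y.isBasis_affineOpens.exists_subset_of_mem_open (Set.mem_univ x) isOpen_univ
      exact Set.mem_iUnion.2 ⟨⟨Z, hZ⟩, hx⟩
  haveI : IsLocallyNoetherian X := LocallyOfFiniteType.isLocallyNoetherian f
  have hHc : Coh.IsCoh (H f F) := isCoh_pushforward f hF
  haveI := hHc.1
  refine ⟨cov.sup c, fun k y => ?_⟩
  obtain ⟨W, hW, hy⟩ := Set.mem_iUnion₂.1 (hcov (Set.mem_univ y))
  have hle : c W ≤ cov.sup c := Finset.le_sup hW
  obtain ⟨hc1, hc2⟩ := hc W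
  haveI hPq : ∀ m, ((P f J F).obj (op m)).IsQuasicoherent := fun m =>
    (isCoh_pushforward f (isCoh_modPow J (m + 1) hF)).1
  refine ⟨fun h hh => ?_, fun v => ?_⟩
  · have hh' : stalkLin (pm f J F (k + c W)) y h = 0 := by
      rw [← pm_trans f J F (show k + c W ≤ k + cov.sup c by omega), stalkLin_comp, hh, map_zero]
    obtain ⟨a, z, ha, hz⟩ := WeakAss.exists_smul_eq_germ W.2 hy h
    have h0 : Y.presheaf.germ W.1 y hy a • stalkLin (pm f J F (k + c W)) y h = 0 := by rw [hh', smul_zero]
    rw [← map_smul, hz, stalkLin_germ, WeakAss.germ_eq_zero_iff W.2 hy] at h0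
    obtain ⟨d, hd, hdz⟩ := h0
    have h1 := hc1 k (d • z) (((appLinear (pm f J F (k + c W)) W.1).map_smul d z).trans hdz)
    have h2 : stalkLin (qπ J (H f F) k) y ((H f F).presheaf.germ W.1 y hy (d • z)) = 0 := by
      refine LinearMap.mem_ker.1 ?_
      rw [ker_stalkLin_of_isQuot (isQuot_qπ J (H f F) k) y]
      exact germ_mem_of_mem hy _ h1
    rw [WeakAss.germ_smul, ← hz, map_smul, map_smul] at h2
    exact ((isUnit_germ ha).smul_eq_zero).1 (((isUnit_germ hd).smul_eq_zero).1 h2)
  · obtain ⟨a, z, ha, hz⟩ := WeakAss.exists_smul_eq_germ W.2 hy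
      (stalkLin (trans (P f J F) (show k + c W ≤ k + cov.sup c by omega)) y v)
    obtain ⟨h, hh⟩ := hc2 k z
    obtain ⟨u, hu⟩ := isUnit_germ (hy := hy) ha
    refine ⟨(↑u⁻¹ : Y.presheaf.stalk y) • (H f F).presheaf.germ W.1 y hy h, ?_⟩
    rw [map_smul, stalkLin_germ, hh, ← stalkLin_germ, ← hz, map_smul, smul_smul, ← hu, Units.inv_mul, one_smul,
      ← stalkLin_comp, trans_comp]

include hf hF in
/-- The map of systems. -/
theorem exists_map {G : ℕᵒᵖ ⥤ Y.Modules} (hG : Formal.IsCohFormal J G)
    (β : (G ⋙ Scheme.Modules.pullback f) ≅ Formal.completion J F) :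
    ∃ (α : G ⟶ Formal.completion J (H f F))
      (s : ∀ n, (Formal.completion J (H f F)).obj (op n) ⟶ (P f J F).obj (op n)),
      (∀ n, qπ J (H f F) n ≫ s n = pm f J F n) ∧
      ∀ n, α.app (op n) ≫ s n = (Scheme.Modules.pullbackPushforwardAdjunction f).unit.app (G.obj (op n)) ≫
        (Scheme.Modules.pushforward f).map (β.hom.app (op n)) := by
  classical
  obtain ⟨c, hc⟩ := exists_bound f hf J F hF
  let adj := Scheme.Modules.pullbackPushforwardAdjunction f
  haveI := adj.right_adjoint_additive
  have hs : ∀ n, ∃ s, qπ J (H f F) n ≫ s = pm f J F n := fun n => (isQuot_qπ J (H f F) n).exists_desc _ fun a ha => by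
    rw [← FormalFn.push_map_smulMod f hf.symm, ← Functor.map_comp, (isQuot_qπ J F n).comp_eq_zero a ha,
      Functor.map_zero]
  choose s hs using hs
  let η : G ⟶ P f J F :=
    { app := fun n => adj.unit.app (G.obj n) ≫ (Scheme.Modules.pushforward f).map (β.hom.app n)
      naturality := fun n m φ => by
        have h1 := adj.unit.naturality (G.map φ)
        have h2 := congrArg (Scheme.Modules.pushforward f).map (β.hom.naturality φ)
        simp only [Functor.id_obj, Functor.comp_obj, Functor.id_map, Functor.comp_map, Functor.map_comp] at h1 h2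
        simp only [Category.assoc, Functor.comp_map]
        rw [reassoc_of% h1, h2] }
  let e : ∀ n, G.obj (op (n + c + c)) ⟶ (P f J F).obj (op (n + c)) := fun n =>
    η.app (op (n + c + c)) ≫ trans (P f J F) (Nat.le_add_right (n + c) c)
  have hpre : ∀ n y v, ∃ h, stalkLin (pm f J F (n + c)) y h = stalkLin (e n) y v := fun n y v => by
    obtain ⟨h, hh⟩ := (hc (n + c) y).2 (stalkLin (η.app (op (n + c + c))) y v)
    exact ⟨h, hh.trans (stalkLin_comp _ _ y v).symm⟩
  have hdef : ∀ n, ∃ a : G.obj (op n) ⟶ (Formal.completion J (H f F)).obj (op n),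
      ∀ y v h, stalkLin (pm f J F (n + c)) y h = stalkLin (e n) y v →
        stalkLin a y (stalkLin (trans G ((Nat.le_add_right n c).trans (Nat.le_add_right (n + c) c))) y v) =
          stalkLin (qπ J (H f F) n) y h := by
    intro n
    let p := pm f J F (n + c)
    have h1 : e n ≫ cokernel.π p = 0 := hom_ext_stalkLin fun y v => by
      obtain ⟨h, hh⟩ := hpre n y v
      rw [stalkLin_comp, ← hh, ← stalkLin_comp, cokernel.condition, stalkLin_zero, stalkLin_zero]
    have h2 : kernel.ι p ≫ qπ J (H f F) n = 0 := hom_ext_stalkLin fun y v => by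
      rw [stalkLin_comp, stalkLin_zero]
      exact (hc n y).1 _ (by rw [← stalkLin_comp, kernel.condition, stalkLin_zero])
    let θ : G.obj (op (n + c + c)) ⟶ (Formal.completion J (H f F)).obj (op n) :=
      kernel.lift (cokernel.π p) (e n) h1 ≫ inv (Abelian.coimageImageComparison p) ≫
        cokernel.desc (kernel.ι p) (qπ J (H f F) n) h2
    obtain ⟨a, ha⟩ := (isQuot_map hG ((Nat.le_add_right n c).trans (Nat.le_add_right (n + c) c))).exists_desc' θ
      (isQuot_qπ J (H f F) n).killedBy
    refine ⟨a, fun y v h hh => ?_⟩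
    rw [← stalkLin_comp]
    refine (congrArg (fun φ => stalkLin φ y v) ha).trans ?_
    have hl : stalkLin (kernel.lift (cokernel.π p) (e n) h1) y v =
        stalkLin (Abelian.factorThruImage p) y h := by
      apply QCoh.stalkLin_injective (Abelian.image.ι p) y
      rw [← stalkLin_comp, ← stalkLin_comp, Abelian.image.fac]
      refine Eq.trans ?_ hh.symm
      exact congrArg (fun φ => stalkLin φ y v) (kernel.lift_ι _ _ h1)
    have hf' : Abelian.factorThruImage p =
        cokernel.π (kernel.ι p) ≫ Abelian.coimageImageComparison p := by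
      rw [← cancel_mono (Abelian.image.ι p), Abelian.image.fac, Category.assoc]
      exact (Abelian.coimage_image_factorisation p).symm
    show stalkLin (kernel.lift (cokernel.π p) (e n) h1 ≫ inv (Abelian.coimageImageComparison p) ≫
        cokernel.desc (kernel.ι p) (qπ J (H f F) n) h2) y v = _
    rw [stalkLin_comp, hl, ← stalkLin_comp, hf']
    refine congrArg (fun φ => stalkLin φ y h) ?_
    simp
  choose a ha using hdef
  have hnat : ∀ n, G.map (homOfLE (Nat.le_succ n)).op ≫ a n =
      a (n + 1) ≫ (Formal.completion J (H f F)).map (homOfLE (Nat.le_succ n)).op := by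
    intro n
    haveI := (isQuot_map hG (show n + 1 ≤ n + 1 + c + c by omega)).epi
    refine (cancel_epi (trans G (show n + 1 ≤ n + 1 + c + c by omega))).1 (hom_ext_stalkLin fun y v => ?_)
    obtain ⟨h, hh⟩ := hpre (n + 1) y v
    have h' : stalkLin (pm f J F (n + c)) y h =
        stalkLin (e n) y (stalkLin (trans G (show n + c + c ≤ n + 1 + c + c by omega)) y v) := by
      rw [← pm_trans f J F (show n + c ≤ n + 1 + c by omega), stalkLin_comp, hh, ← stalkLin_comp, ← stalkLin_comp]
      refine congrArg (fun φ => stalkLin φ y v) ?_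
      simp only [e]
      rw [← Category.assoc (trans G _), η.naturality]
      exact (Category.assoc _ _ _).trans ((congrArg (η.app _ ≫ ·) ((trans_comp (P f J F) _ _).trans
        (trans_comp (P f J F) _ _).symm)).trans (Category.assoc _ _ _).symm)
    rw [stalkLin_comp, stalkLin_comp, stalkLin_comp, stalkLin_comp, ha (n + 1) y v h hh, ← stalkLin_comp,
      ← stalkLin_comp (trans G _)]
    refine Eq.trans ?_ ((congrArg (fun φ => stalkLin φ y h) (qπ_trans J (H f F) (Nat.le_succ n))).symm.trans (stalkLin_comp _ _ y h))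
    rw [← ha n y _ h h', ← stalkLin_comp (trans G (show n + c + c ≤ n + 1 + c + c by omega))]
    show stalkLin (trans G _ ≫ trans G (Nat.le_succ n) ≫ a n) y v = _
    rw [← Category.assoc, stalkLin_comp, trans_comp, trans_comp]
  refine ⟨natTrans a hnat, s, hs, fun n => ?_⟩
  rw [natTrans_app]
  haveI := (isQuot_map hG ((Nat.le_add_right n c).trans (Nat.le_add_right (n + c) c))).epi
  refine (cancel_epi (trans G ((Nat.le_add_right n c).trans (Nat.le_add_right (n + c) c)))).1
    (hom_ext_stalkLin fun y v => ?_)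
  obtain ⟨h, hh⟩ := hpre n y v
  rw [stalkLin_comp, stalkLin_comp, ha n y v h hh, ← stalkLin_comp, hs,
    ← pm_trans f J F (Nat.le_add_right n c), stalkLin_comp, hh, ← stalkLin_comp]
  refine congrArg (fun φ => stalkLin φ y v) ?_
  simp only [e, Category.assoc, trans_comp]
  exact (η.naturality _).symm

end GrothLib.PushPull7
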