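import Groth.Agent.Lib.PushPull7.Alpha
import Groth.Agent.Lib.FormalExist7.KerUniform
import Groth.Agent.Lib.FormalExist7.TrickyAux
import Groth.Agent.Lib.LocProj.Scheme
import Groth.Agent.Lib.AdicFS.Complete

/-!
# Kernel and cokernel of the comparison with the completion of a direct image
-/

set_option autoImplicit false
set_option linter.style.haveILetI false
set_option linter.unusedSectionVars false
set_option backward.isDefEq.respectTransparency false
set_option maxHeartbeats 1200000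
universe u

open CategoryTheory CategoryTheory.Limits AlgebraicGeometry Opposite TopologicalSpace
open scoped TensorProduct

noncomputable section

namespace GrothLib.PushPull7

open GrothLib.FormalSys GrothLib.FormalFun GrothLib.QCoh GrothLib.FormalCd7 GrothLib.FormalExist7

section Chart

variable {X Y : Scheme.{u}} (f : X ⟶ Y) {U : Y.Opens}

theorem app_bijective [IsIso (f ∣_ U)] {O : Y.Opens} (h : O ≤ U) : Function.Bijective (f.app O) := by
  have e : U.ι ''ᵁ (U.ι ⁻¹ᵁ O) = O := U.ι.image_preimage_eq_opensRange_inf O |>.trans (by simp [h])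
  haveI : IsIso (f.app (U.ι ''ᵁ (U.ι ⁻¹ᵁ O))) := by
    haveI : IsIso ((f ∣_ U).app (U.ι ⁻¹ᵁ O)) := inferInstance
    rw [morphismRestrict_app] at this
    haveI := this
    exact @IsIso.of_isIso_comp_right _ _ _ _ _ (f.app (U.ι ''ᵁ (U.ι ⁻¹ᵁ O))) _ _ this
  rw [e] at this
  exact ConcreteCategory.bijective_of_isIso (f.app O)

/-- A principal open around a point of the isomorphism locus with preimage in a given open. -/
theorem exists_basicOpen_preimage_le [IsProper f] [IsIso (f ∣_ U)] {W : Y.Opens} (hW : IsAffineOpen W)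
    {V : X.Opens} {x : X} (hxV : x ∈ V) (hxW : f x ∈ W) (hxU : f x ∈ U) :
    ∃ b : Γ(Y, W), f x ∈ Y.basicOpen b ∧ Y.basicOpen b ≤ U ∧ f ⁻¹ᵁ Y.basicOpen b ≤ V := by
  let O : Y.Opens := ⟨(f '' (V : Set X)ᶜ)ᶜ, (f.isClosedMap _ V.2.isClosed_compl).isOpen_compl⟩
  have hxO : f x ∈ O := by
    rintro ⟨z, hz, hzx⟩
    refine hz ?_
    have hinj : Function.Injective (f ∣_ U) := (f ∣_ U).homeomorph.injective
    have h1 : f z ∈ U := by rw [hzx]; exact hxU
    have h2 : (⟨z, h1⟩ : ↥(f ⁻¹ᵁ U)) = ⟨x, hxU⟩ := hinj (Subtype.ext (by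
      rw [morphismRestrict_base]
      exact hzx))
    rw [show z = x from congrArg Subtype.val h2]
    exact hxV
  obtain ⟨b, hb, hxb⟩ := hW.exists_basicOpen_le (V := U ⊓ O) ⟨f x, hxU, hxO⟩ hxW
  exact ⟨b, hxb, hb.trans inf_le_left, fun z hz => not_not.1 fun h => (hb hz).2 ⟨z, h, rfl⟩⟩

attribute [local instance] GrothLib.LocProj.secBasicModule

/-- Sections on a chart map compatibly to modules in which a principal open inside the chart is inverted. -/
theorem exists_semilinear [IsIso (f ∣_ U)] {W : Y.Opens} (hW : IsAffineOpen W) (b : Γ(Y, W))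
    (hbU : Y.basicOpen b ≤ U) {V : X.Opens} (hV : IsAffineOpen V) (e : V ≤ f ⁻¹ᵁ W)
    (hbV : f ⁻¹ᵁ Y.basicOpen b ≤ V) (F : X.Modules) [((Scheme.Modules.pushforward f).obj F).IsQuasicoherent]
    {S : Type u} [CommRing S] {T : Type u} [AddCommGroup T] [Module S T] (γ : Γ(Y, W) →+* S)
    (τ : Γ(X, V) →+* S) (hτ : ∀ a, τ (f.appLE W V e a) = γ a) (hb : IsUnit (γ b))
    (k : Γ(H f F, W) →+ T) (hk : ∀ a h, k (a • h) = γ a • k h) :
    ∃ Λ : Γ(F, V) →+ T, (∀ h : Γ(H f F, W), Λ (F.presheaf.map (homOfLE e).op h) = k h) ∧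
      ∀ v x, Λ (v • x) = τ v • Λ x := by
  letI : Module Γ(Y, W) T := Module.compHom T γ
  let k' : Γ(H f F, W) →ₗ[Γ(Y, W)] T := { toFun := k, map_add' := map_add k, map_smul' := hk }
  haveI := GrothLib.LocProj.isLocalizedModule_resBasic (H f F) b hW
  have hu : ∀ a : Submonoid.powers b, IsUnit (algebraMap Γ(Y, W) (Module.End Γ(Y, W) T) a) := by
    rintro ⟨a, n, rfl⟩
    refine (Module.End.isUnit_iff _).2 ?_
    obtain ⟨w, hw⟩ := hb.pow n
    refine ⟨fun p q h => ?_, fun p => ⟨(↑w⁻¹ : S) • p, ?_⟩⟩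
    · change γ (b ^ n) • p = γ (b ^ n) • q at h
      rw [map_pow, ← hw] at h
      simpa [smul_smul] using congrArg ((↑w⁻¹ : S) • ·) h
    · show γ (b ^ n) • (↑w⁻¹ : S) • p = p
      rw [map_pow, ← hw, smul_smul, Units.mul_inv, one_smul]
  let res : Γ(F, V) →+ Γ(H f F, Y.basicOpen b) := (F.presheaf.map (homOfLE hbV).op).hom
  let lft := IsLocalizedModule.lift (Submonoid.powers b) (GrothLib.LocProj.resBasic (H f F) b) k' hu
  let Λ : Γ(F, V) →+ T := lft.toAddMonoidHom.comp res
  refine ⟨Λ, fun h => ?_, ?_⟩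
  · have h1 : res (F.presheaf.map (homOfLE e).op h) = GrothLib.LocProj.resBasic (H f F) b h :=
      (ConcreteCategory.congr_hom (F.presheaf.map_comp (homOfLE e).op (homOfLE hbV).op) h).symm
    show lft (res _) = _
    rw [h1]
    exact IsLocalizedModule.lift_apply (Submonoid.powers b) _ k' hu h
  have hlin : ∀ a x, Λ (f.appLE W V e a • x) = γ a • Λ x := fun a x => by
    have h1 : res (f.appLE W V e a • x) = a • res x := by
      refine (Scheme.Modules.map_smul F (homOfLE hbV) _ _).trans ?_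
      have h2 : X.presheaf.map (homOfLE hbV).op (f.appLE W V e a) =
          f.app (Y.basicOpen b) (Y.presheaf.map (homOfLE (Y.basicOpen_le b)).op a) := by
        rw [Scheme.Hom.app_eq_appLE, ← CommRingCat.comp_apply, ← CommRingCat.comp_apply,
          Scheme.Hom.appLE_map, Scheme.Hom.map_appLE]
      rw [h2]
      rfl
    show lft (res _) = γ a • lft (res x)
    rw [h1, map_smul]
    rfl
  intro v x
  -- a multiple of `v` comes from the base
  let c : Γ(X, V) := f.appLE W V e b
  have hc : X.basicOpen c = f ⁻¹ᵁ Y.basicOpen b := by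
    rw [Scheme.basicOpen_appLE]
    exact inf_eq_right.2 hbV
  obtain ⟨w, hw⟩ := (app_bijective f hbU).2 (X.presheaf.map (homOfLE hbV).op v)
  haveI := hW.isLocalization_basicOpen b
  obtain ⟨⟨a, ⟨_, m, rfl⟩⟩, ha⟩ := IsLocalization.surj (Submonoid.powers b) w
  have h2 : X.presheaf.map (homOfLE hbV).op (c ^ m * v) =
      X.presheaf.map (homOfLE hbV).op (f.appLE W V e a) := by
    have h3 : ∀ a, X.presheaf.map (homOfLE hbV).op (f.appLE W V e a) =
          f.app (Y.basicOpen b) (algebraMap Γ(Y, W) Γ(Y, Y.basicOpen b) a) := fun a => by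
        rw [RingHom.algebraMap_toAlgebra, Scheme.Hom.app_eq_appLE, ← CommRingCat.comp_apply,
          ← CommRingCat.comp_apply, Scheme.Hom.appLE_map, Scheme.Hom.map_appLE]
    rw [map_mul, map_pow, h3, h3, ← hw, ← map_pow, ← map_pow, ← map_mul, mul_comm, ha]
  haveI : IsLocalization (Submonoid.powers c)
      Γ(X, X.basicOpen c) := hV.isLocalization_basicOpen c
  have h4 : algebraMap Γ(X, V) Γ(X, X.basicOpen c) (c ^ m * v) =
      algebraMap Γ(X, V) Γ(X, X.basicOpen c) (f.appLE W V e a) := by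
    have h5 := congrArg (X.presheaf.map (homOfLE hc.le).op) h2
    rw [← CommRingCat.comp_apply, ← CommRingCat.comp_apply, ← Functor.map_comp] at h5
    exact h5
  obtain ⟨⟨_, l, rfl⟩, hl⟩ := (IsLocalization.eq_iff_exists (Submonoid.powers c) _).1 h4
  have h6 : c ^ (l + m) * v = f.appLE W V e (b ^ l * a) := by
    rw [map_mul, map_pow, ← hl, pow_add, mul_assoc]
  have h7 : γ (b ^ (l + m)) • Λ (v • x) = γ (b ^ (l + m)) • τ v • Λ x := by
    rw [← hlin, smul_smul (f.appLE W V e (b ^ (l + m))) v x, map_pow (f.appLE W V e).hom, h6, hlin,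
      smul_smul]
    congr 1
    rw [← hτ, ← h6, map_mul, map_pow, map_pow, hτ]
  exact (IsUnit.smul_left_cancel (by rw [map_pow]; exact hb.pow _)).1 h7

end Chart

variable {A : Type u} [CommRing A] {X Y : Scheme.{u}} [X.Over (Spec (CommRingCat.of A))]
  [Y.Over (Spec (CommRingCat.of A))] [IsNoetherian Y] (f : X ⟶ Y) [IsProper f]
  (hf : f ≫ (Y ↘ Spec (CommRingCat.of A)) = X ↘ Spec (CommRingCat.of A))
  {J : Ideal A} {F : X.Modules} (hF : Coh.IsCoh F) {U : Y.Opens} [IsIso (f ∣_ U)]

include hf in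
theorem appLE_toSec {W : Y.Opens} {V : X.Opens} (e : V ≤ f ⁻¹ᵁ W) (a : A) :
    f.appLE W V e (toSec A W a) = toSec A V a := by
  show f.appLE W V e (Y.presheaf.map _ ((Y ↘ Spec (CommRingCat.of A)).appTop _)) = _
  rw [← CommRingCat.comp_apply, Scheme.Hom.map_appLE]
  show _ = X.presheaf.map _ ((X ↘ Spec (CommRingCat.of A)).appTop _)
  rw [← hf, Scheme.Hom.comp_appTop]
  simp [Scheme.Hom.appLE, Scheme.Hom.appTop]

/-- An action through a quotient of the base. -/
theorem level_smul' {B C : Type u} [CommRing B] [CommRing C] [Algebra B C] (I : Ideal B) {M : Type u} [AddCommGroup M]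
    [Module B M] [Module C M] [IsScalarTower B C M] {N : Type u}
    [AddCommGroup N] [Module B N] (p : M →ₗ[B] N)
    (hp : LinearMap.ker p = I • (⊤ : Submodule B M)) (c : C) (r : B)
    (h1 : c - algebraMap B C r ∈ I.map (algebraMap B C)) (x : M) : p (c • x) = r • p x := by
  have h2 : (I.map (algebraMap B C) • (⊤ : Submodule C M)).restrictScalars B = I • (⊤ : Submodule B M) := by
    rw [Ideal.smul_restrictScalars, Submodule.restrictScalars_top]
  have h3 : (c - algebraMap B C r) • x ∈ I • (⊤ : Submodule B M) :=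
    h2.le ((Submodule.restrictScalars_mem B _ _).2 (Submodule.smul_mem_smul h1 Submodule.mem_top))
  rw [← hp, LinearMap.mem_ker, sub_smul, algebraMap_smul, map_sub, sub_eq_zero, LinearMap.map_smul p r x] at h3
  exact h3

theorem sub_mem_map {B : Type u} [CommRing B] (JB : Ideal B) (hfg : JB.FG) (n : ℕ) (c : AdicCompletion JB B) (r : B)
    (hr : AdicCompletion.evalₐ JB n c = Ideal.Quotient.mk _ r) :
    c - algebraMap B (AdicCompletion JB B) r ∈ (JB ^ n).map (algebraMap B (AdicCompletion JB B)) := by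
  rw [Ideal.map_pow, ← GrothLib.AdicFS.ker_evalₐ hfg n, RingHom.mem_ker]
  show AdicCompletion.evalₐ JB n (c - algebraMap B (AdicCompletion JB B) r) = 0
  rw [map_sub, hr, AlgHom.commutes]
  exact sub_self _

/-- The completion acts on a level through the base. -/
theorem level_smul {B : Type u} [CommRing B] [IsNoetherianRing B] (JB : Ideal B) {M : Type u} [AddCommGroup M]
    [Module B M] [Module (AdicCompletion JB B) M] [IsScalarTower B (AdicCompletion JB B) M] {N : Type u}
    [AddCommGroup N] [Module B N] (p : M →ₗ[B] N) (n : ℕ)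
    (hp : LinearMap.ker p = JB ^ (n + 1) • (⊤ : Submodule B M)) (c : AdicCompletion JB B) (r : B)
    (hr : AdicCompletion.evalₐ JB (n + 1) c = Ideal.Quotient.mk _ r) (x : M) : p (c • x) = r • p x :=
  level_smul' (JB ^ (n + 1)) p hp c r (sub_mem_map JB JB.fg_of_isNoetherianRing (n + 1) c r hr) x

end GrothLib.PushPull7
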