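import Groth.Agent.Lib.PushPull7.Chart

/-!
# Kernel and cokernel of the comparison with the completion of a direct image
-/

set_option autoImplicit false
set_option linter.style.haveILetI false
set_option linter.unusedSectionVars false
set_option backward.isDefEq.respectTransparency false
universe u

open CategoryTheory CategoryTheory.Limits AlgebraicGeometry Opposite TopologicalSpace
open scoped TensorProduct

noncomputable section

namespace GrothLib.PushPull7

open GrothLib.FormalSys GrothLib.FormalFun GrothLib.QCoh GrothLib.FormalCd7 GrothLib.FormalExist7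

variable {A : Type u} [CommRing A] {X Y : Scheme.{u}} [X.Over (Spec (CommRingCat.of A))]
  [Y.Over (Spec (CommRingCat.of A))] [IsNoetherian Y] (f : X ⟶ Y) [IsProper f]
  (hf : f ≫ (Y ↘ Spec (CommRingCat.of A)) = X ↘ Spec (CommRingCat.of A))
  {J : Ideal A} {F : X.Modules} (hF : Coh.IsCoh F) {U : Y.Opens} [IsIso (f ∣_ U)]

include hf hF in
/-- The cokernel in the limit is killed by a power. -/
theorem exists_kill_coker
    {G : ℕᵒᵖ ⥤ Y.Modules} (hG : Formal.IsCohFormal J G)
    (β : (G ⋙ Scheme.Modules.pullback f) ≅ Formal.completion J F)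
    (α : G ⟶ Formal.completion J (H f F))
    (s : ∀ n, (Formal.completion J (H f F)).obj (op n) ⟶ (P f J F).obj (op n))
    (hs1 : ∀ n, qπ J (H f F) n ≫ s n = pm f J F n)
    (hs2 : ∀ n, α.app (op n) ≫ s n = (Scheme.Modules.pullbackPushforwardAdjunction f).unit.app (G.obj (op n)) ≫
        (Scheme.Modules.pushforward f).map (β.hom.app (op n)))
    (W : Y.affineOpens) [IsNoetherianRing Γ(Y, W.1)] (g : Γ(Y, W.1)) (hg : Y.basicOpen g ≤ U)
    {L : Type u} [AddCommGroup L] [Module Γ(Y, W.1) L]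
    [Module (AdicCompletion (J.map (toSec A W.1)) Γ(Y, W.1)) L]
    [IsScalarTower Γ(Y, W.1) (AdicCompletion (J.map (toSec A W.1)) Γ(Y, W.1)) L]
    [Module.Finite (AdicCompletion (J.map (toSec A W.1)) Γ(Y, W.1)) L]
    (φ : ∀ n, L →ₗ[Γ(Y, W.1)] Γ(G.obj (op n), W.1)) (hφs : ∀ n, Function.Surjective (φ n))
    {LH : Type u} [AddCommGroup LH] [Module Γ(Y, W.1) LH]
    [Module (AdicCompletion (J.map (toSec A W.1)) Γ(Y, W.1)) LH]
    [IsScalarTower Γ(Y, W.1) (AdicCompletion (J.map (toSec A W.1)) Γ(Y, W.1)) LH]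
    [Module.Finite (AdicCompletion (J.map (toSec A W.1)) Γ(Y, W.1)) LH]
    (ψ : ∀ n, LH →ₗ[Γ(Y, W.1)] Γ((Formal.completion J (H f F)).obj (op n), W.1))
    (hψk : LinearMap.ker (ψ 0) = (J.map (toSec A W.1)) ^ (0 + 1) • (⊤ : Submodule Γ(Y, W.1) LH))
    (Φ : L →ₗ[AdicCompletion (J.map (toSec A W.1)) Γ(Y, W.1)] LH)
    (hΦ : ∀ x, ψ 0 (Φ x) = (α.app (op 0)).app W.1 (φ 0 x))
    (j : Γ(H f F, W.1) →ₗ[Γ(Y, W.1)] LH) (hjf : ∀ h, ψ 0 (j h) = (qπ J (H f F) 0).app W.1 h) :
    ∃ a : ℕ, ∀ y : LH, g ^ a • y ∈ LinearMap.range Φ := by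
  classical
  haveI : IsLocallyNoetherian X := LocallyOfFiniteType.isLocallyNoetherian f
  have hHc : Coh.IsCoh (H f F) := isCoh_pushforward f hF
  haveI := hHc.1
  haveI hFq := hF.1
  let B := Γ(Y, W.1)
  let JB : Ideal B := J.map (toSec A W.1)
  have hHh : Formal.IsCohFormal J (Formal.completion J (H f F)) := isCohFormal_completion J hHc
  let C := AdicCompletion JB B
  let gC : C := algebraMap B C g
  haveI : IsAdicComplete (JB.map (algebraMap B C)) C :=
    AdicCompletion.isAdicComplete_self JB JB.fg_of_isNoetherianRing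
  let JC : Ideal C := JB.map (algebraMap B C)
  have hJC : (JC • (⊤ : Submodule C LH)).restrictScalars B = JB • (⊤ : Submodule B LH) := by
    rw [Ideal.smul_restrictScalars, Submodule.restrictScalars_top]
  have hgen : Submodule.span C (Set.range j) = ⊤ := by
    refine top_le_iff.1 (Submodule.le_of_le_smul_of_le_jacobson_bot Module.Finite.fg_top
      (IsAdicComplete.le_jacobson_bot JC) fun y _ => ?_)
    obtain ⟨h, hh⟩ := (app_isQuot' (isQuot_qπ J (H f F) 0) hHc (hHh.1 0) W.2).1 (ψ 0 y)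
    refine Submodule.mem_sup.2 ⟨j h, Submodule.subset_span ⟨h, rfl⟩, y - j h, ?_, add_sub_cancel _ _⟩
    refine Submodule.restrictScalars_mem B _ _ |>.1 (hJC.ge ?_)
    rw [← pow_one JB, ← hψk, LinearMap.mem_ker, map_sub, ← hh]
    exact sub_eq_zero.2 (hjf h).symm
  let Q := LH ⧸ LinearMap.range Φ
  suffices h : gC ∈ (Module.annihilator C Q).radical by
    obtain ⟨a, ha⟩ := h
    refine ⟨a, fun y => ?_⟩
    rw [← Submodule.Quotient.mk_eq_zero, ← algebraMap_smul C (g ^ a) y, map_pow, Submodule.Quotient.mk_smul]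
    exact Module.mem_annihilator.1 ha _
  rw [Ideal.radical_eq_sInf, Ideal.mem_sInf]
  rintro p ⟨hap, hp⟩
  by_contra hgp
  haveI := hp
  obtain ⟨V, e, hV, σ, hσ, hunit⟩ :=
    exists_chart_retraction f W.2 g hg JC (IsAdicComplete.le_jacobson_bot JC) p hgp
  letI : Algebra B Γ(X, V) := (f.appLE W.1 V e).hom.toAlgebra
  let Sp := Localization.AtPrime p
  let D := Γ(X, V) ⊗[B] C
  let T := LocalizedModule p.primeCompl Q
  let mkT : LH →ₗ[C] T := (LocalizedModule.mkLinearMap p.primeCompl Q).comp (LinearMap.range Φ).mkQ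
  let γ : B →+* Sp := (algebraMap C Sp).comp (algebraMap B C)
  let τ : Γ(X, V) →+* Sp := σ.comp Algebra.TensorProduct.includeLeftRingHom
  have hτ : ∀ r, τ (f.appLE W.1 V e r) = γ r := fun r => by
    show σ ((f.appLE W.1 V e r) ⊗ₜ (1 : C)) = algebraMap C Sp (algebraMap B C r)
    rw [← hσ]
    refine congrArg σ ?_
    show (algebraMap B Γ(X, V) r) ⊗ₜ[B] (1 : C) = (1 : Γ(X, V)) ⊗ₜ (algebraMap B C r)
    rw [Algebra.algebraMap_eq_smul_one, Algebra.algebraMap_eq_smul_one, TensorProduct.smul_tmul]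
  -- the point of the chart
  let q : Ideal Γ(X, V) := (IsLocalRing.maximalIdeal Sp).comap τ
  let x : X := hV.fromSpec ⟨q, Ideal.IsPrime.comap τ⟩
  have hxV : x ∈ V := hV.range_fromSpec.le ⟨_, rfl⟩
  have hfx : f x = W.2.fromSpec (Spec.map (f.appLE W.1 V e) ⟨q, Ideal.IsPrime.comap τ⟩) :=
    (congrArg (fun t : Spec Γ(X, V) ⟶ Y => t ⟨q, Ideal.IsPrime.comap τ⟩)
      (IsAffineOpen.SpecMap_appLE_fromSpec f W.2 hV e)).symm
  have hmem : ∀ r : B, f x ∈ Y.basicOpen r ↔ IsUnit (γ r) := fun r => by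
    rw [hfx, ← hτ]
    show Spec.map (f.appLE W.1 V e) _ ∈ W.2.fromSpec ⁻¹ᵁ Y.basicOpen r ↔ _
    rw [W.2.fromSpec_preimage_basicOpen]
    show ¬ (τ (f.appLE W.1 V e r) ∈ IsLocalRing.maximalIdeal Sp) ↔ _
    rw [IsLocalRing.mem_maximalIdeal, mem_nonunits_iff, not_not]
  have hgu : IsUnit (γ g) := IsLocalization.map_units (M := p.primeCompl) Sp ⟨gC, hgp⟩
  obtain ⟨b, hxb, hbU, hbV⟩ :=
    exists_basicOpen_preimage_le f W.2 hxV (e hxV) (hg ((hmem g).2 hgu))
  have hmkT : ∀ (c : C) (y : LH), mkT (c • y) = algebraMap C Sp c • mkT y := fun c y => by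
    rw [map_smul, algebraMap_smul]
  obtain ⟨Λ, hΛj, hΛ⟩ := exists_semilinear f W.2 b hbU hV e hbV F γ τ hτ ((hmem b).1 hxb)
    (mkT.toAddMonoidHom.comp j.toAddMonoidHom) fun r h => by
      show mkT (j (r • h)) = γ r • mkT (j h)
      rw [map_smul, ← algebraMap_smul C r (j h)]
      exact hmkT _ _
  letI : Module D T := Module.compHom T σ
  let JD : Ideal D := JC.map (Algebra.TensorProduct.includeRight : C →ₐ[B] D).toRingHom
  let S : Submodule D T := Submodule.span D (Set.range Λ)
  have hvs : ∀ (v : Γ(X, V)) (z : T), τ v • z = (v ⊗ₜ[B] (1 : C) : D) • z := fun v z => rfl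
  have hcs : ∀ (c : C) (y : LH), mkT (c • y) = ((1 : Γ(X, V)) ⊗ₜ[B] c : D) • mkT y := fun c y => by
    rw [hmkT, ← hσ c]
    rfl
  have hS : ∀ y : LH, mkT y ∈ S := fun y => by
    have hy : y ∈ Submodule.span C (Set.range j) := hgen ▸ trivial
    induction hy using Submodule.span_induction with
    | mem _ h => obtain ⟨h, rfl⟩ := h; exact Submodule.subset_span ⟨_, hΛj h⟩
    | zero => rw [map_zero]; exact S.zero_mem
    | add _ _ _ _ h1 h2 => rw [map_add]; exact S.add_mem h1 h2
    | smul c _ _ h => rw [hcs]; exact S.smul_mem _ h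
  have hJS : ∀ y ∈ JB • (⊤ : Submodule B LH), mkT y ∈ JD • S := fun y hy => by
    refine Submodule.smul_induction_on hy (fun r hr z _ => ?_) fun a b ha hb => ?_
    · rw [← algebraMap_smul C r z, hcs]
      exact Submodule.smul_mem_smul (Ideal.mem_map_of_mem _ (Ideal.mem_map_of_mem _ hr)) (hS z)
    · rw [map_add]; exact add_mem ha hb
  -- modulo the ideal, sections of the chart come from the system
  have hmod : ∀ w : Γ(X, V) ⊗[B] Γ(G.obj (op 0), W.1), ∃ x' : Γ(F, V), Λ x' ∈ JD • S ∧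
      (qπ J F 0).app V x' = (β.hom.app (op 0)).app V (QCoh.sectionsMap f (G.obj (op 0)) e rfl w) := by
    intro w
    induction w using TensorProduct.induction_on with
    | zero => exact ⟨0, by rw [map_zero]; exact zero_mem _, by simp⟩
    | add u v hu hv =>
      obtain ⟨x1, h1, h1'⟩ := hu
      obtain ⟨x2, h2, h2'⟩ := hv
      exact ⟨x1 + x2, by rw [map_add]; exact add_mem h1 h2, by simp [h1', h2']⟩
    | tmul v z =>
      obtain ⟨h, hh⟩ := (app_isQuot' (isQuot_qπ J (H f F) 0) hHc (hHh.1 0) W.2).1 ((α.app (op 0)).app W.1 z)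
      obtain ⟨x', rfl⟩ := hφs 0 z
      refine ⟨v • F.presheaf.map (homOfLE e).op h, ?_, ?_⟩
      · rw [hΛ, hΛj, hvs]
        refine Submodule.smul_mem _ _ ?_
        show mkT (j h) ∈ _
        have h0 : mkT (Φ x') = 0 := by
          show LocalizedModule.mkLinearMap _ _ (Submodule.Quotient.mk (Φ x')) = 0
          rw [(Submodule.Quotient.mk_eq_zero _).2 (LinearMap.mem_range_self Φ x'), map_zero]
        rw [← sub_zero (mkT (j h)), ← h0, ← map_sub]
        refine hJS _ ?_
        rw [← pow_one JB, ← hψk, LinearMap.mem_ker, map_sub, hΦ]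
        exact sub_eq_zero.2 ((hjf h).trans hh)
      · rw [Scheme.Modules.Hom.app_smul, QCoh.sectionsMap_tmul, Scheme.Modules.Hom.app_smul]
        refine congrArg (v • ·) ?_
        have h1 : (pm f J F 0).app W.1 h = ((Scheme.Modules.pullbackPushforwardAdjunction f).unit.app (G.obj (op 0)) ≫
            (Scheme.Modules.pushforward f).map (β.hom.app (op 0))).app W.1 (φ 0 x') := by
          rw [← hs1, ← hs2]
          exact congrArg (fun y => (s 0).app W.1 y) hh
        refine (congr($((Scheme.Modules.Hom.mapPresheaf (qπ J F 0)).naturality (homOfLE e).op) h)).trans ?_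
        refine (congrArg (((Formal.completion J F).obj (op 0)).presheaf.map (homOfLE e).op) h1).trans ?_
        exact (congr($((Scheme.Modules.Hom.mapPresheaf (β.hom.app (op 0))).naturality (homOfLE e).op)
          (((Scheme.Modules.pullbackPushforwardAdjunction f).unit.app (G.obj (op 0))).app W.1 (φ 0 x')))).symm
  have hle : S ≤ JD • S := by
    refine Submodule.span_le.2 ?_
    rintro _ ⟨x', rfl⟩
    obtain ⟨m, hm⟩ := (ConcreteCategory.bijective_of_isIso ((β.hom.app (op 0)).app V)).2 ((qπ J F 0).app V x')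
    haveI := (hG.1 0).1
    obtain ⟨w, rfl⟩ := (QCoh.bijective_sectionsMap f (G.obj (op 0)) e rfl W.2 hV).2 m
    obtain ⟨x'', h1, h1'⟩ := hmod w
    have h2 := ((app_isQuot' (isQuot_qπ J F 0) hF (isCoh_modPow J 1 hF) hV).2 (x' - x'')).1 (by
      rw [map_sub, h1', hm, sub_self])
    have h3 : Λ (x' - x'') ∈ JD • S := by
      refine Submodule.smul_induction_on h2 (fun r hr z _ => ?_) fun a b ha hb => ?_
      · rw [hΛ, hvs]
        refine Submodule.smul_mem_smul ?_ (Submodule.subset_span ⟨z, rfl⟩)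
        have h4 : (J ^ (0 + 1)).map (toSec A V) = JB.map (f.appLE W.1 V e).hom := by
          rw [zero_add, pow_one, Ideal.map_map]
          exact congrArg (fun t => Ideal.map t J) (RingHom.ext fun a => (appLE_toSec f hf e a).symm)
        rw [h4] at hr
        have h5 := Ideal.mem_map_of_mem (Algebra.TensorProduct.includeLeftRingHom : Γ(X, V) →+* D) hr
        rw [Ideal.map_map] at h5
        refine SetLike.le_def.1 (le_of_eq ?_) h5
        show _ = JD
        simp only [JD, JC, JB, Ideal.map_map]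
        refine congrArg (fun t => Ideal.map t J) (RingHom.ext fun a => ?_)
        show (algebraMap B Γ(X, V) (toSec A W.1 a)) ⊗ₜ[B] (1 : C) = (1 : Γ(X, V)) ⊗ₜ (algebraMap B C (toSec A W.1 a))
        rw [Algebra.algebraMap_eq_smul_one, Algebra.algebraMap_eq_smul_one, TensorProduct.smul_tmul]
      · rw [map_add]; exact add_mem ha hb
    show Λ x' ∈ JD • S
    have := add_mem h3 h1
    rwa [← map_add, sub_add_cancel] at this
  have hfg : S.FG := by
    haveI := QCoh.moduleFinite_of_isFiniteType F hF.2 hV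
    obtain ⟨gens, hgens⟩ := (Module.Finite.fg_top : (⊤ : Submodule Γ(X, V) Γ(F, V)).FG)
    refine ⟨gens.image Λ, le_antisymm (Submodule.span_mono (by simp)) ?_⟩
    refine Submodule.span_le.2 ?_
    rintro _ ⟨x', rfl⟩
    have hx' : x' ∈ Submodule.span Γ(X, V) (gens : Set Γ(F, V)) := hgens ▸ trivial
    induction hx' using Submodule.span_induction with
    | mem z h => exact Submodule.subset_span (Finset.mem_coe.2 (Finset.mem_image_of_mem Λ h))
    | zero => rw [map_zero]; exact zero_mem _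
    | add _ _ _ _ h1 h2 => rw [map_add]; exact add_mem h1 h2
    | smul v _ _ h => rw [hΛ, hvs]; exact Submodule.smul_mem _ _ h
  obtain ⟨r, hr, hr0⟩ := Submodule.exists_sub_one_mem_and_smul_eq_zero_of_fg_of_le_smul JD S hfg hle
  have hru : IsUnit (σ r) := by
    have := hunit (1 - r) (by rw [← neg_sub]; exact neg_mem hr)
    rwa [sub_sub_cancel] at this
  refine hgp (Ideal.IsPrime.mem_of_pow_mem hp 1 ?_)
  exfalso
  obtain ⟨gens, hgens⟩ := (Module.Finite.fg_top : (⊤ : Submodule C Q).FG)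
  have hzero : ∀ z : Q, ∃ s : p.primeCompl, (s : C) • z = 0 := fun z => by
    obtain ⟨y, rfl⟩ := Submodule.mkQ_surjective _ z
    have h1 : mkT y = 0 := hru.smul_eq_zero.1 (hr0 _ (hS y))
    exact (IsLocalizedModule.eq_zero_iff p.primeCompl (LocalizedModule.mkLinearMap p.primeCompl Q)).1 h1
  choose t ht using hzero
  have hmem' : ((∏ z ∈ gens, t z : p.primeCompl) : C) ∈ Module.annihilator C Q := by
    rw [← Submodule.annihilator_top, ← hgens, Submodule.mem_annihilator_span]
    rintro ⟨z, hz⟩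
    show ((∏ z' ∈ gens, t z' : p.primeCompl) : C) • z = 0
    rw [← Finset.prod_erase_mul gens t hz, Submonoid.coe_mul, mul_smul, ht, smul_zero]
  exact (∏ z ∈ gens, t z : p.primeCompl).2 (hap hmem')

end GrothLib.PushPull7
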