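import Groth.Agent.Lib.PushPull7.KillKer
import Groth.Agent.Lib.PushPull7.KillCoker

/-!
# Kernel and cokernel of the comparison with the completion of a direct image
-/

set_option autoImplicit false
set_option linter.style.haveILetI false
set_option linter.unusedSectionVars false
set_option backward.isDefEq.respectTransparency false
universe u

open CategoryTheory CategoryTheory.Limits AlgebraicGeometry Opposite TopologicalSpace
open scoped TensorProduct

noncomputable section

namespace GrothLib.PushPull7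

open GrothLib.FormalSys GrothLib.FormalFun GrothLib.QCoh GrothLib.FormalCd7 GrothLib.FormalExist7

variable {A : Type u} [CommRing A] {X Y : Scheme.{u}} [X.Over (Spec (CommRingCat.of A))]
  [Y.Over (Spec (CommRingCat.of A))] [IsNoetherian Y] (f : X ⟶ Y) [IsProper f]
  (hf : f ≫ (Y ↘ Spec (CommRingCat.of A)) = X ↘ Spec (CommRingCat.of A))
  {J : Ideal A} {F : X.Modules} (hF : Coh.IsCoh F) {U : Y.Opens} [IsIso (f ∣_ U)]

include hf hF in
/-- The bound over an affine open of the target. -/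
theorem exists_local {G : ℕᵒᵖ ⥤ Y.Modules} (hG : Formal.IsCohFormal J G)
    (β : (G ⋙ Scheme.Modules.pullback f) ≅ Formal.completion J F)
    (α : G ⟶ Formal.completion J (H f F))
    (s : ∀ n, (Formal.completion J (H f F)).obj (op n) ⟶ (P f J F).obj (op n))
    (hs1 : ∀ n, qπ J (H f F) n ≫ s n = pm f J F n)
    (hs2 : ∀ n, α.app (op n) ≫ s n = (Scheme.Modules.pullbackPushforwardAdjunction f).unit.app (G.obj (op n)) ≫
        (Scheme.Modules.pushforward f).map (β.hom.app (op n)))
    (W : Y.affineOpens) (g : Γ(Y, W.1)) (hg : Y.basicOpen g ≤ U) :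
    ∃ k : ℕ, ∀ n : ℕ, (∀ z : Γ(G.obj (op n), W.1), (α.app (op n)).app W.1 z = 0 → g ^ k • z = 0) ∧
      ∀ z : Γ((Formal.completion J (H f F)).obj (op n), W.1), ∃ x, (α.app (op n)).app W.1 x = g ^ k • z := by
  classical
  haveI : IsLocallyNoetherian X := LocallyOfFiniteType.isLocallyNoetherian f
  have hHc : Coh.IsCoh (H f F) := isCoh_pushforward f hF
  haveI := hHc.1
  haveI hFq := hF.1
  let B := Γ(Y, W.1)
  haveI : IsNoetherianRing B := IsLocallyNoetherian.component_noetherian W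
  let JB : Ideal B := J.map (toSec A W.1)
  let Hh : ℕᵒᵖ ⥤ Y.Modules := Formal.completion J (H f F)
  have hHh : Formal.IsCohFormal J Hh := isCohFormal_completion J hHc
  have hsys : ∀ {M : ℕᵒᵖ ⥤ Y.Modules}, Formal.IsCohFormal J M → ∀ n,
      Function.Surjective (secTrans M W.1 (Nat.le_succ n)) ∧
      LinearMap.ker (secTrans M W.1 (Nat.le_succ n)) =
        JB ^ (n + 1) • (⊤ : Submodule B Γ(M.obj (op (n + 1)), W.1)) := fun {M} hM n =>
    ⟨(FormalFn.app_isQuot (hM.1 (n + 1)) (isQuot_map hM (Nat.le_succ n)) W.2).1, Submodule.ext fun z => by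
      rw [LinearMap.mem_ker, secTrans_eq_zero_iff hM W.2 (Nat.le_succ n), Ideal.map_pow]⟩
  haveI := (haveI := (hG.1 0).1; QCoh.moduleFinite_of_isFiniteType (G.obj (op 0)) (hG.1 0).2 W.2)
  haveI := (haveI := (hHh.1 0).1; QCoh.moduleFinite_of_isFiniteType (Hh.obj (op 0)) (hHh.1 0).2 W.2)
  obtain ⟨L, iL₁, iL₂, iL₃, iL₄, hLfin, φ, hφc, hφi, hφl, hφs, hφk⟩ :=
    exists_limit JB (fun n => Γ(G.obj (op n), W.1)) (fun n => secTrans G W.1 (Nat.le_succ n))
      (fun n => (hsys hG n).1) (fun n => (hsys hG n).2)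
  obtain ⟨LH, iH₁, iH₂, iH₃, iH₄, hHfin, ψ, hψc, hψi, hψl, hψs, hψk⟩ :=
    exists_limit JB (fun n => Γ(Hh.obj (op n), W.1)) (fun n => secTrans Hh W.1 (Nat.le_succ n))
      (fun n => (hsys hHh n).1) (fun n => (hsys hHh n).2)
  let C := AdicCompletion JB B
  haveI : IsNoetherianRing C := inferInstance
  let aL : ∀ n, Γ(G.obj (op n), W.1) →ₗ[B] Γ(Hh.obj (op n), W.1) := fun n => appLinear (α.app (op n)) W.1
  have haL : ∀ n x, secTrans Hh W.1 (Nat.le_succ n) (aL (n + 1) (φ (n + 1) x)) = aL n (φ n x) := fun n x => by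
    rw [← hφc n x]
    exact congrArg (fun q : G.obj (op (n + 1)) ⟶ Hh.obj (op n) => q.app W.1 (φ (n + 1) x))
      (α.naturality (homOfLE (Nat.le_succ n)).op).symm
  choose Φf hΦf using fun x : L => hψl (fun n => aL n (φ n x)) (fun n => haL n x)
  have hext : ∀ a b : LH, (∀ n, ψ n a = ψ n b) → a = b := fun a b h =>
    sub_eq_zero.1 (hψi _ fun n => by rw [map_sub, h n, sub_self])
  let Φ : L →ₗ[C] LH :=
    { toFun := Φf
      map_add' := fun a b => hext _ _ fun n => by simp [hΦf]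
      map_smul' := fun c x => hext _ _ fun n => by
        obtain ⟨r, hr⟩ := Ideal.Quotient.mk_surjective (AdicCompletion.evalₐ JB (n + 1) c)
        rw [RingHom.id_apply, hΦf, level_smul JB (ψ n) n (hψk n) c r hr.symm, level_smul JB (φ n) n (hφk n) c r hr.symm, hΦf, map_smul] }
  have hΦ : ∀ n x, ψ n (Φ x) = (α.app (op n)).app W.1 (φ n x) := fun n x => hΦf x n
  let gC : C := algebraMap B C g
  -- the kernel
  have hker : ∀ x, Φ x = 0 → ∃ k : ℕ, g ^ k • x = 0 := fun x hx =>
    exists_kill_ker f hG β α s hs1 hs2 W g hg φ hφs hφk x fun n => by rw [← hΦ, hx, map_zero]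
  obtain ⟨N, hN⟩ : ∃ N : ℕ, ∀ x, Φ x = 0 → g ^ N • x = 0 := by
    let Z : ℕ →o Submodule C L :=
      ⟨fun k => LinearMap.ker (LinearMap.lsmul C L (gC ^ k)), monotone_nat_of_le_succ fun k x hx => by
          simp only [LinearMap.mem_ker, LinearMap.lsmul_apply] at hx ⊢
          rw [pow_succ', mul_smul, hx, smul_zero]⟩
    obtain ⟨N, hN⟩ := monotone_stabilizes_iff_noetherian.2 (isNoetherian_of_isNoetherianRing_of_finite C L) Z
    refine ⟨N, fun x hx => ?_⟩
    obtain ⟨k, hk⟩ := hker x hx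
    have hmem : x ∈ Z (max N k) := Z.mono (le_max_right N k) (show x ∈ Z k by
      show gC ^ k • x = 0
      rw [← map_pow, algebraMap_smul]
      exact hk)
    rw [← hN _ (le_max_left N k)] at hmem
    rw [← algebraMap_smul C (g ^ N) x, map_pow]
    exact hmem
  -- sections of the direct image
  choose jf hjf using fun h : Γ(H f F, W.1) => hψl (fun n => (qπ J (H f F) n).app W.1 h) fun n =>
    congrArg (fun q : H f F ⟶ Hh.obj (op n) => q.app W.1 h) (qπ_trans J (H f F) (Nat.le_succ n))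
  let j : Γ(H f F, W.1) →ₗ[B] LH :=
    { toFun := jf
      map_add' := fun a b => hext _ _ fun n => by simp [hjf]
      map_smul' := fun r a => hext _ _ fun n => by
        rw [RingHom.id_apply, map_smul, hjf, hjf, Scheme.Modules.Hom.app_smul] }
  -- the cokernel
  obtain ⟨a, ha⟩ : ∃ a : ℕ, ∀ y : LH, g ^ a • y ∈ LinearMap.range Φ :=
    exists_kill_coker f hf hF hG β α s hs1 hs2 W g hg φ hφs ψ (hψk 0) Φ (hΦ 0) j fun h => hjf h 0
  refine ⟨a + N, fun n => ⟨fun z hz => ?_, fun z => ?_⟩⟩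
  · obtain ⟨x, rfl⟩ := hφs n z
    have h1 : g ^ a • Φ x ∈ Submodule.map (Φ.restrictScalars B) (JB ^ (n + 1) • ⊤) := by
      rw [Submodule.map_smul'']
      have h2 : Φ x ∈ JB ^ (n + 1) • (⊤ : Submodule B LH) := by
        rw [← hψk n, LinearMap.mem_ker, hΦ]; exact hz
      refine Submodule.smul_induction_on h2 (fun r hr y _ => ?_) fun u v hu hv => ?_
      · rw [smul_comm]
        refine Submodule.smul_mem_smul hr ?_
        obtain ⟨w, hw⟩ := ha y
        exact ⟨w, trivial, hw⟩
      · rw [smul_add]; exact add_mem hu hv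
    obtain ⟨w, hw, hw'⟩ := h1
    have h3 : g ^ N • (g ^ a • x - w) = 0 := hN _ (by
      show (Φ.restrictScalars B) (g ^ a • x - w) = 0
      rw [map_sub, map_smul, hw']
      exact sub_self _)
    have h4 : φ n w = 0 := by rw [← LinearMap.mem_ker, hφk n]; exact hw
    have h5 := congrArg (φ n) h3
    rw [map_zero, map_smul, map_sub, h4, sub_zero, map_smul, smul_smul, ← pow_add, add_comm N a] at h5
    exact h5
  · obtain ⟨y, rfl⟩ := hψs n z
    obtain ⟨x, hx⟩ := ha y
    refine ⟨φ n (g ^ N • x), ?_⟩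
    rw [← hΦ, LinearMap.map_smul_of_tower, map_smul, hx, map_smul, smul_smul, ← pow_add, add_comm N a]

include hf hF in
/-- Kernels and cokernels are killed by a uniform power of the ideal sheaf. -/
theorem kerCokerKilled (K : Y.IdealSheafData) (hK : ∀ (W : Y.affineOpens), ∀ g ∈ K.ideal W, Y.basicOpen g ≤ U)
    {G : ℕᵒᵖ ⥤ Y.Modules} (hG : Formal.IsCohFormal J G)
    (β : (G ⋙ Scheme.Modules.pullback f) ≅ Formal.completion J F)
    (α : G ⟶ Formal.completion J (H f F))
    (s : ∀ n, (Formal.completion J (H f F)).obj (op n) ⟶ (P f J F).obj (op n))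
    (hs1 : ∀ n, qπ J (H f F) n ≫ s n = pm f J F n)
    (hs2 : ∀ n, α.app (op n) ≫ s n = (Scheme.Modules.pullbackPushforwardAdjunction f).unit.app (G.obj (op n)) ≫
        (Scheme.Modules.pushforward f).map (β.hom.app (op n))) :
    Formal2.KerCokerKilledByPow K α := by
  classical
  haveI : IsLocallyNoetherian X := LocallyOfFiniteType.isLocallyNoetherian f
  have hHh : Formal.IsCohFormal J (Formal.completion J (H f F)) :=
    isCohFormal_completion J (isCoh_pushforward f hF)
  have hloc : ∀ W : Y.affineOpens, ∃ t : ℕ, ∀ (n : ℕ), ∀ a ∈ K.ideal W ^ t,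
      (∀ z : Γ(G.obj (op n), W.1), (α.app (op n)).app W.1 z = 0 → a • z = 0) ∧
      ∀ z : Γ((Formal.completion J (H f F)).obj (op n), W.1), ∃ x, (α.app (op n)).app W.1 x = a • z := by
    intro W
    haveI : IsNoetherianRing Γ(Y, W.1) := IsLocallyNoetherian.component_noetherian W
    let A₀ : Ideal Γ(Y, W.1) :=
      { carrier := {a | ∀ n, (∀ z : Γ(G.obj (op n), W.1), (α.app (op n)).app W.1 z = 0 → a • z = 0) ∧
          ∀ z : Γ((Formal.completion J (H f F)).obj (op n), W.1), ∃ x, (α.app (op n)).app W.1 x = a • z}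
        add_mem' := fun {a b} ha hb n => ⟨fun z hz => by rw [add_smul, (ha n).1 z hz, (hb n).1 z hz, add_zero],
          fun z => by
            obtain ⟨x, hx⟩ := (ha n).2 z
            obtain ⟨y, hy⟩ := (hb n).2 z
            exact ⟨x + y, by rw [map_add, hx, hy, add_smul]⟩⟩
        zero_mem' := fun n => ⟨fun z _ => zero_smul _ _, fun z => ⟨0, by rw [map_zero, zero_smul]⟩⟩
        smul_mem' := fun r a ha n => ⟨fun z hz => by rw [smul_eq_mul, mul_smul, (ha n).1 z hz, smul_zero],
          fun z => by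
            obtain ⟨x, hx⟩ := (ha n).2 z
            exact ⟨r • x, by rw [Scheme.Modules.Hom.app_smul, hx, smul_smul]; rfl⟩⟩ }
    have h : K.ideal W ≤ A₀.radical := fun g hg => by
      obtain ⟨k, hk⟩ := exists_local f hf hF hG β α s hs1 hs2 W g (hK W g hg)
      exact ⟨k, hk⟩
    obtain ⟨t, ht⟩ := Ideal.exists_pow_le_of_le_radical_of_fg h (IsNoetherian.noetherian _)
    exact ⟨t, fun n a ha => ht ha n⟩
  choose tW htW using hloc
  obtain ⟨cov, hcov⟩ := isCompact_univ.elim_finite_subcover (fun W : Y.affineOpens => (W.1 : Set Y))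
    (fun W => W.1.2) fun x _ => by
      obtain ⟨_, ⟨Z, hZ, rfl⟩, hx, -⟩ :=
        Y.isBasis_affineOpens.exists_subset_of_mem_open (Set.mem_univ x) isOpen_univ
      exact Set.mem_iUnion.2 ⟨⟨Z, hZ⟩, hx⟩
  have hall : ∀ {M : Y.Modules} (hM : Coh.IsCoh M),
      (∀ W ∈ cov, ∀ a ∈ K.ideal W ^ tW W, ∀ z : Γ(M, W.1), a • z = 0) →
      ClSub.KilledByIdeal (K ^ (cov.sup tW + 1)) M := by
    intro M hM h
    haveI := hM.1
    have hle : K ^ (cov.sup tW + 1) ≤ annIdeal M hM.2 := by
      refine Scheme.IdealSheafData.le_of_iSup_eq_top (fun V : cov => V.1) (top_le_iff.1 fun y _ => ?_) fun V => ?_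
      · obtain ⟨V, hV, hy⟩ := Set.mem_iUnion₂.1 (hcov (Set.mem_univ y))
        exact Opens.mem_iSup.2 ⟨⟨V, hV⟩, hy⟩
      intro b hb
      rw [annIdeal_ideal, Module.mem_annihilator]
      rw [Scheme.IdealSheafData.ideal_pow, Pi.pow_apply] at hb
      exact h V.1 V.2 b (Ideal.pow_le_pow_right ((Finset.le_sup V.2).trans (Nat.le_succ _)) hb)
    exact fun W a ha z => killedByIdeal_annIdeal M hM.2 W a (hle W ha) z
  refine ⟨cov.sup tW, fun n => ⟨hall (isCoh_kernel _ (hG.1 n) (hHh.1 n)) fun W _ a ha z => ?_,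
    hall (isCoh_cokernel _ (hG.1 n) (hHh.1 n)) fun W _ a ha z => ?_⟩⟩
  · refine Cohom.app_injective_of_mono (kernel.ι (α.app (op n))) W.1 ?_
    rw [map_zero, Scheme.Modules.Hom.app_smul]
    refine (htW W n a ha).1 _ ?_
    exact (congrArg (fun q : kernel (α.app (op n)) ⟶ (Formal.completion J (H f F)).obj (op n) => q.app W.1 z)
      (kernel.condition (α.app (op n)))).trans rfl
  · obtain ⟨z, rfl⟩ := app_surjective_of_epi (cokernel.π (α.app (op n))) (hHh.1 n)
      (isCoh_cokernel _ (hG.1 n) (hHh.1 n)) W.2 z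
    obtain ⟨x, hx⟩ := (htW W n a ha).2 z
    rw [← Scheme.Modules.Hom.app_smul, ← hx]
    exact (congrArg (fun q : G.obj (op n) ⟶ cokernel (α.app (op n)) => q.app W.1 x)
      (cokernel.condition (α.app (op n)))).trans rfl

end GrothLib.PushPull7
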