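import Groth.Agent.Lib.PushPull7.Chart

/-!
# Kernel and cokernel of the comparison with the completion of a direct image
-/

set_option autoImplicit false
set_option linter.style.haveILetI false
set_option linter.unusedSectionVars false
set_option backward.isDefEq.respectTransparency false
universe u

open CategoryTheory CategoryTheory.Limits AlgebraicGeometry Opposite TopologicalSpace
open scoped TensorProduct

noncomputable section

namespace GrothLib.PushPull7

open GrothLib.FormalSys GrothLib.FormalFun GrothLib.QCoh GrothLib.FormalCd7 GrothLib.FormalExist7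

variable {A : Type u} [CommRing A] {X Y : Scheme.{u}} [X.Over (Spec (CommRingCat.of A))]
  [Y.Over (Spec (CommRingCat.of A))] [IsNoetherian Y] (f : X ⟶ Y) [IsProper f]
  (hf : f ≫ (Y ↘ Spec (CommRingCat.of A)) = X ↘ Spec (CommRingCat.of A))
  {J : Ideal A} {F : X.Modules} (hF : Coh.IsCoh F) {U : Y.Opens} [IsIso (f ∣_ U)]

/-- Elements of the kernel in the limit are killed by a power. -/
theorem exists_kill_ker
    {G : ℕᵒᵖ ⥤ Y.Modules} (hG : Formal.IsCohFormal J G)
    (β : (G ⋙ Scheme.Modules.pullback f) ≅ Formal.completion J F)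
    (α : G ⟶ Formal.completion J (H f F))
    (s : ∀ n, (Formal.completion J (H f F)).obj (op n) ⟶ (P f J F).obj (op n))
    (hs1 : ∀ n, qπ J (H f F) n ≫ s n = pm f J F n)
    (hs2 : ∀ n, α.app (op n) ≫ s n = (Scheme.Modules.pullbackPushforwardAdjunction f).unit.app (G.obj (op n)) ≫
        (Scheme.Modules.pushforward f).map (β.hom.app (op n)))
    (W : Y.affineOpens) [IsNoetherianRing Γ(Y, W.1)] (g : Γ(Y, W.1)) (hg : Y.basicOpen g ≤ U)
    {L : Type u} [AddCommGroup L] [Module Γ(Y, W.1) L]
    [Module (AdicCompletion (J.map (toSec A W.1)) Γ(Y, W.1)) L]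
    [IsScalarTower Γ(Y, W.1) (AdicCompletion (J.map (toSec A W.1)) Γ(Y, W.1)) L]
    [Module.Finite (AdicCompletion (J.map (toSec A W.1)) Γ(Y, W.1)) L]
    (φ : ∀ n, L →ₗ[Γ(Y, W.1)] Γ(G.obj (op n), W.1)) (hφs : ∀ n, Function.Surjective (φ n))
    (hφk : ∀ n, LinearMap.ker (φ n) =
      (J.map (toSec A W.1)) ^ (n + 1) • (⊤ : Submodule Γ(Y, W.1) L))
    (x : L) (hx : ∀ n, (α.app (op n)).app W.1 (φ n x) = 0) : ∃ k : ℕ, g ^ k • x = 0 :=
    exists_pow_smul_eq_zero f W.2 g hg (J.map (toSec A W.1)) (fun m => Γ(G.obj (op m), W.1)) φ hφs hφk x fun V e hV m => by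
      letI : Algebra Γ(Y, W.1) Γ(X, V) := (f.appLE W.1 V e).hom.toAlgebra
      haveI := (hG.1 m).1
      refine (QCoh.bijective_sectionsMap f (G.obj (op m)) e rfl W.2 hV).1 ?_
      rw [map_zero, QCoh.sectionsMap_tmul, one_smul]
      have h1 : (α.app (op m) ≫ s m).app W.1 (φ m x) = 0 := by
        show (s m).app W.1 ((α.app (op m)).app W.1 (φ m x)) = 0
        rw [hx, map_zero]
      rw [hs2] at h1
      have h2 : ((Scheme.Modules.pullbackPushforwardAdjunction f).unit.app (G.obj (op m))).app W.1 (φ m x) = 0 := by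
        refine (ConcreteCategory.bijective_of_isIso ((β.hom.app (op m)).app (f ⁻¹ᵁ W.1))).1 ?_
        exact h1.trans (map_zero _).symm
      exact (congrArg (((Scheme.Modules.pullback f).obj (G.obj (op m))).presheaf.map (homOfLE e).op) h2).trans (map_zero _)

end GrothLib.PushPull7
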